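import Mathlib
import Cfsg.Agent.H662.GW.Defs
import Cfsg.Agent.H37.NX.Defs

/-!
# S4979, layer (B): the interface between the structural half (helper20) and the numerical half

`SB p q s n f X B` : the perfect group `Y` acts faithfully and irreducibly on the symplectic space `(U, B)` over
`ZMod s`, `|U| = s ^ (2 n)`, `X` is its largest proper normal subgroup, of order prime to `p`, `Y / X` is simple
nonabelian of order divisible by `p`, `q ∤ |Y|`, and for every `y` of order `p` the counting inequality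
`(q ^ f) ^ (s ^ n - k) ≤ s ^ (2 j) * |Y : C_Y(y)|` holds, `p k ≤ s ^ n + (p - 1) s ^ (n - j)`, `|C_U(y)| = s ^ (2 (n - j))`
(`Ineq` of `H662.GW.Defs`).

`ExtraSp K E` : `E` is a minimal noncentral normal subgroup of `H`, inside `K`, of class 2.
-/

set_option autoImplicit false

open Cfsg
open scoped commutatorElement

namespace Cfsg.Agent.H20.NX

open Cfsg.Agent.H662.GW

/-- The numerical situation of layer (B). -/
structure SB (p q s n f : ℕ) {Y U : Type*} [Group Y] [Finite Y] [AddCommGroup U] [Finite U]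
    [DistribMulAction Y U] (X : Subgroup Y) (B : U → U → ZMod s) : Prop where
  hp : p.Prime
  hq : q.Prime
  hs : s.Prime
  odd : p ≠ 2
  hpq : p ≠ q
  hps : p ≠ s
  hn : 1 ≤ n
  perf : commutator Y = ⊤
  nX : X.Normal
  Xt : X ≠ ⊤
  maxX : ∀ M : Subgroup Y, M.Normal → M ≠ ⊤ → M ≤ X
  simp : IsSimpleGroup (Y ⧸ X)
  na : ¬ IsMulCommutative (Y ⧸ X)
  cop : ¬ p ∣ Nat.card X
  pY : p ∣ Nat.card (Y ⧸ X)
  qY : ¬ q ∣ Nat.card Y
  faith : ∀ y : Y, (∀ u : U, y • u = u) → y = 1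
  exp : ∀ u : U, s • u = 0
  card : Nat.card U = s ^ (2 * n)
  addl : ∀ u v w : U, B (u + v) w = B u w + B v w
  addr : ∀ u v w : U, B u (v + w) = B u v + B u w
  alt : ∀ u : U, B u u = 0
  nd : ∀ u : U, (∀ v : U, B u v = 0) → u = 0
  inv : ∀ (y : Y) (u v : U), B (y • u) (y • v) = B u v
  irr : ∀ W : AddSubgroup U, (∀ y : Y, ∀ w ∈ W, y • w ∈ W) → W = ⊥ ∨ W = ⊤
  hf : 1 ≤ f
  hsf : s ∣ q ^ f - 1
  ineq : ∀ y : Y, orderOf y = p → ∀ j ≤ n, Nat.card {u : U // y • u = u} = s ^ (2 * (n - j)) →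
    Ineq p s n j (q ^ f) (Subgroup.centralizer ({y} : Set Y)).index

/-- A minimal noncentral normal subgroup of class 2 inside `K`. -/
structure ExtraSp {H : Type*} [Group H] (K E : Subgroup H) : Prop where
  nE : E.Normal
  EK : E ≤ K
  nc : ¬ E ≤ Subgroup.center H
  min : ∀ M : Subgroup H, M.Normal → M ≤ E → M ≠ E → M ≤ Subgroup.center H
  cls : ∀ a ∈ E, ∀ b ∈ E, ⁅a, b⁆ ∈ Subgroup.center H

/-- the quasi-primitivity that is needed: a minimal `E`-submodule is faithful modulo `N` -/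
def QPE (V : Type*) {H : Type*} [Group H] [AddCommGroup V] [DistribMulAction H V] (N E : Subgroup H) : Prop :=
  ∀ M : Subgroup H, M.Normal → M ≤ E → ∀ W : AddSubgroup V, W ≠ ⊥ → (∀ m ∈ M, ∀ w ∈ W, m • w ∈ W) →
    ∀ m ∈ M, (∀ w ∈ W, m • w = w) → m ∈ N

/-- TARGET of the structural half. -/
def StructB : Prop :=
  ∀ {p q : ℕ} [Fact p.Prime] [Fact q.Prime] {H V : Type} [Group H] [Finite H] [AddCommGroup V] [Finite V]
    [DistribMulAction H V] {K N : Subgroup H} {φ : N →* ℂˣ}, Cfsg.Agent.H37.NX.Core2 (V := V) p q K N φ →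
    ¬ q ∣ Nat.card H → ∀ E : Subgroup H, ExtraSp K E → QPE V N E →
    ∃ (s n f : ℕ) (U Y : Type) (_ : AddCommGroup U) (_ : Finite U) (_ : Group Y) (_ : Finite Y)
      (_ : DistribMulAction Y U) (B : U → U → ZMod s) (π : H →* Y), Function.Surjective π ∧
      SB p q s n f (K.map π) B ∧ (∀ k : H, π k = 1 ↔ ∀ e ∈ E, ⁅k, e⁆ ∈ Subgroup.center H)

end Cfsg.Agent.H20.NX
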