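import Cfsg.Agent.H20.NX.BCount
import Cfsg.Agent.H20.LX.Exact
import Cfsg.Agent.H20.LX.Cube

/-!
# S4979, layer (B): exact multiplicities of the elements of order 3 (helper20)

`exists_det` : the determinant `δ` over `F = End_L W`; an element `x` of order 3 is untwisted iff `δ x = 1`.
-/

set_option autoImplicit false
set_option linter.unusedSectionVars false

open scoped commutatorElement
open Module

namespace Cfsg.Agent.H20.NX

open Cfsg.Agent.H586.NX Cfsg.Agent.H20.GWX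

universe u

/-- the norm form -/
theorem norm_form (m : ℕ) : ∀ a b : ℤ, a ^ 2 + a * b + b ^ 2 = 4 ^ m →
    (a = 0 ∧ (b = 2 ^ m ∨ b = - 2 ^ m)) ∨ (b = 0 ∧ (a = 2 ^ m ∨ a = - 2 ^ m)) ∨
      (a + b = 0 ∧ (a = 2 ^ m ∨ a = - 2 ^ m)) := by
  induction m with
  | zero =>
    intro a b h
    rw [pow_zero] at h
    have h1 : a ^ 2 ≤ 1 := by nlinarith [sq_nonneg (a + 2 * b)]
    have h2 : b ^ 2 ≤ 1 := by nlinarith [sq_nonneg (b + 2 * a)]
    have h3 : -1 ≤ a ∧ a ≤ 1 := abs_le.1 (by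
      have := abs_le_of_sq_le_sq' (show a ^ 2 ≤ 1 ^ 2 by rw [one_pow]; exact h1) (by norm_num)
      exact abs_le.2 this)
    have h4 : -1 ≤ b ∧ b ≤ 1 := abs_le.1 (by
      have := abs_le_of_sq_le_sq' (show b ^ 2 ≤ 1 ^ 2 by rw [one_pow]; exact h2) (by norm_num)
      exact abs_le.2 this)
    obtain ⟨h5, h6⟩ := h3
    obtain ⟨h7, h8⟩ := h4
    interval_cases a <;> interval_cases b <;> simp_all
  | succ m ih =>
    intro a b h
    have ha : Even a ∧ Even b := by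
      have h1 : (a ^ 2 + a * b + b ^ 2) % 2 = 0 := by
        rw [h, pow_succ]
        omega
      rcases Int.emod_two_eq_zero_or_one a with ha | ha <;> rcases Int.emod_two_eq_zero_or_one b with hb | hb
      · exact ⟨Int.even_iff.2 ha, Int.even_iff.2 hb⟩
      · exfalso
        have : (a ^ 2 + a * b + b ^ 2) % 2 = 1 := by
          rw [Int.add_emod, Int.add_emod (a ^ 2), Int.mul_emod a b, sq, sq, Int.mul_emod a a, Int.mul_emod b b, ha, hb]
          norm_num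
        omega
      · exfalso
        have : (a ^ 2 + a * b + b ^ 2) % 2 = 1 := by
          rw [Int.add_emod, Int.add_emod (a ^ 2), Int.mul_emod a b, sq, sq, Int.mul_emod a a, Int.mul_emod b b, ha, hb]
          norm_num
        omega
      · exfalso
        have : (a ^ 2 + a * b + b ^ 2) % 2 = 1 := by
          rw [Int.add_emod, Int.add_emod (a ^ 2), Int.mul_emod a b, sq, sq, Int.mul_emod a a, Int.mul_emod b b, ha, hb]
          norm_num
        omega
    obtain ⟨⟨c, rfl⟩, ⟨d, rfl⟩⟩ := ha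
    have h1 : c ^ 2 + c * d + d ^ 2 = 4 ^ m := by
      have h2 : (4 : ℤ) ^ (m + 1) = 4 ^ m * 4 := pow_succ 4 m
      rw [h2] at h
      nlinarith
    rcases ih c d h1 with ⟨h2, h3⟩ | ⟨h2, h3⟩ | ⟨h2, h3⟩
    · left
      refine ⟨by rw [h2]; rfl, ?_⟩
      rcases h3 with h3 | h3
      · left; rw [h3, pow_succ]; ring
      · right; rw [h3, pow_succ]; ring
    · right; left
      refine ⟨by rw [h2]; rfl, ?_⟩
      rcases h3 with h3 | h3
      · left; rw [h3, pow_succ]; ring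
      · right; rw [h3, pow_succ]; ring
    · right; right
      refine ⟨by linarith, ?_⟩
      rcases h3 with h3 | h3
      · left; rw [h3, pow_succ]; ring
      · right; rw [h3, pow_succ]; ring

theorem three_dvd (k : ℕ) : (3 : ℤ) ∣ 2 ^ k - (-1) ^ k := by
  have h := sub_dvd_pow_sub_pow (2 : ℤ) (-1) k
  norm_num at h
  exact h

theorem not_three_dvd (m : ℕ) : ¬ (3 : ℤ) ∣ 2 ^ m := by
  intro h
  have h2 : (3 : ℕ) ∣ 2 ^ m := by exact_mod_cast h
  have h3 := Nat.prime_three.dvd_of_dvd_pow h2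
  omega

/-- the sign -/
theorem sign_of {n k : ℕ} (hk : k ≤ n) {m e : ℤ} (h : 3 * m + e = 2 ^ n) (he : e = 2 ^ (n - k) ∨ e = - 2 ^ (n - k)) :
    e = (-1) ^ k * 2 ^ (n - k) := by
  have h1 : (3 : ℤ) ∣ 2 ^ n - (-1) ^ k * 2 ^ (n - k) := by
    have h2 : (2 : ℤ) ^ n - (-1) ^ k * 2 ^ (n - k) = (2 ^ k - (-1) ^ k) * 2 ^ (n - k) := by
      rw [sub_mul, ← pow_add, Nat.add_sub_cancel' hk]
    rw [h2]
    exact (three_dvd k).mul_right _
  have h3 : (3 : ℤ) ∣ e - (-1) ^ k * 2 ^ (n - k) := by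
    have h4 : e - (-1) ^ k * 2 ^ (n - k) = (2 ^ n - (-1) ^ k * 2 ^ (n - k)) + (- (3 * m)) := by rw [← h]; ring
    rw [h4]
    exact dvd_add h1 (by rw [dvd_neg]; exact dvd_mul_right _ _)
  have hnd := not_three_dvd (n - k)
  rcases neg_one_pow_eq_or ℤ k with hs | hs <;> rcases he with he | he
  · rw [hs, he, one_mul]
  · exfalso
    rw [hs, he] at h3
    omega
  · exfalso
    rw [hs, he] at h3
    omega
  · rw [hs, he, neg_one_mul]

theorem arith {n k m0 m1 m2 C : ℕ} (hk : k ≤ n) (hs : m0 + m1 + m2 = 2 ^ n) (hC : m0 ^ 2 + m1 ^ 2 + m2 ^ 2 = C)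
    (h3 : 3 * C = 2 ^ (2 * n) + 2 * 2 ^ (2 * (n - k))) :
    (m1 = m2 ∧ (3 * m0 : ℤ) = 2 ^ n + 2 * (-1) ^ k * 2 ^ (n - k)) ∨
      (¬ 3 ∣ m1 + 2 * m2 ∧ (3 * m0 : ℤ) = 2 ^ n - (-1) ^ k * 2 ^ (n - k)) := by
  have hs' : (m0 : ℤ) + m1 + m2 = 2 ^ n := by exact_mod_cast hs
  have hnd := not_three_dvd (n - k)
  have hform : ((m0 : ℤ) - m1) ^ 2 + ((m0 : ℤ) - m1) * ((m1 : ℤ) - m2) + ((m1 : ℤ) - m2) ^ 2 = 4 ^ (n - k) := by
    have h4 : (3 * (m0 ^ 2 + m1 ^ 2 + m2 ^ 2) : ℤ) = (m0 + m1 + m2) ^ 2 + 2 * 4 ^ (n - k) := by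
      rw [hs', ← pow_mul, mul_comm n 2, show (4 : ℤ) = 2 ^ 2 by norm_num, ← pow_mul]
      rw [← hC] at h3
      exact_mod_cast h3
    linarith
  rcases norm_form (n - k) _ _ hform with ⟨h1, h2⟩ | ⟨h1, h2⟩ | ⟨h1, h2⟩
  · -- `m0 = m1`
    right
    have he : (m2 : ℤ) - m0 = (-1) ^ k * 2 ^ (n - k) := by
      refine sign_of hk (m := m0) (by linarith) ?_
      rcases h2 with h2 | h2
      · right; linarith
      · left; linarith
    constructor
    · intro hd
      have hd' : (3 : ℤ) ∣ (m1 : ℤ) + 2 * m2 := by exact_mod_cast hd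
      rcases h2 with h2 | h2 <;> omega
    · linarith
  · -- `m1 = m2`
    left
    have he : (m0 : ℤ) - m1 = (-1) ^ k * 2 ^ (n - k) := sign_of hk (m := m1) (by linarith) h2
    refine ⟨by omega, ?_⟩
    linarith
  · -- `m0 = m2`
    right
    have he : (m1 : ℤ) - m0 = (-1) ^ k * 2 ^ (n - k) := by
      refine sign_of hk (m := m0) (by linarith) ?_
      rcases h2 with h2 | h2
      · right; linarith
      · left; linarith
    constructor
    · intro hd
      have hd' : (3 : ℤ) ∣ (m1 : ℤ) + 2 * m2 := by exact_mod_cast hd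
      rcases h2 with h2 | h2 <;> omega
    · linarith

section
variable {q n : ℕ} {G : Type*} {W : Type u} {Y U : Type*} [Group G] [Finite G] [AddCommGroup W] [Finite W]
    [DistribMulAction G W] [Group Y] [Finite Y] [AddCommGroup U] [Finite U] [DistribMulAction Y U]
    {L Z : Subgroup G} {π : G →* Y} {a : L →* Multiplicative U} {X : Subgroup Y} {B : U → U → ZMod 2}

/-- **the determinant and the multiplicities** -/
theorem exists_det (S : SX (U := U) 3 q 2 n X B) (h : LB (W := W) 3 q 2 n L Z π a B) {Q : ℕ}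
    (hQ : Nat.card W = Q ^ (2 ^ n)) :
    ∃ (F : Type u) (_ : Field F) (_ : Finite F) (δ : G →* Fˣ), Nat.card F = Q ∧ ∀ x : G, orderOf x = 3 →
      ∀ k ≤ n, Nat.card {u : U // π x • u = u} = 2 ^ (2 * (n - k)) →
        (δ x = 1 ∧ ∃ a : ℕ, (3 * a : ℤ) = 2 ^ n + 2 * (-1) ^ k * 2 ^ (n - k) ∧
          Nat.card {w : W // x • w = w} = Q ^ a) ∨
        (δ x ≠ 1 ∧ ∃ b : ℕ, (3 * b : ℤ) = 2 ^ n - (-1) ^ k * 2 ^ (n - k) ∧
          Nat.card {w : W // x • w = w} = Q ^ b) := by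
  have hnt := h.lx.nt
  obtain ⟨F, i1, i2, i3, D⟩ := Cfsg.Agent.H684.GW.exists_FD (W := W) h.lx.nL h.lx.irr
  have hFQ : Nat.card F = Q := by
    have h1 := card_W h.lx D
    rw [hQ] at h1
    exact (Nat.pow_left_injective (show 2 ^ n ≠ 0 by positivity) h1).symm
  have hcomm : ∀ x : G, ∀ z ∈ Z, ∀ w : W, x • z • w = z • x • w := fun x z hz w => (h.cen z hz x w).symm
  have hlin : ∀ (x : G) (c : F) (w : W), x • (c • w) = c • (x • w) := fun x => lin_of_Z h.lx D (hcomm x)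
  let ρ : G →* Module.End F W :=
    { toFun := fun x =>
        { toFun := fun w => x • w
          map_add' := fun u w => smul_add _ u w
          map_smul' := fun c w => hlin x c w }
      map_one' := by
        ext w
        show (1 : G) • w = w
        rw [one_smul]
      map_mul' := by
        intro x y
        ext w
        show (x * y) • w = x • y • w
        rw [mul_smul] }
  have hρ : ∀ x w, ρ x w = x • w := fun _ _ => rfl
  let δ : G →* Fˣ := ((LinearMap.det : Module.End F W →* F).comp ρ).toHomUnits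
  have hδ : ∀ x, ((δ x : Fˣ) : F) = LinearMap.det (ρ x) := fun _ => rfl
  refine ⟨F, i1, i2, δ, hFQ, ?_⟩
  intro x hx k hk hfix
  have hx3 : x ^ 3 = 1 := by rw [← hx, pow_orderOf_eq_one]
  have hg3 : ρ x ^ 3 = 1 := by rw [← map_pow, hx3, map_one]
  have hπx := LB_ne_one h hx
  have hcent := finrank_cent_eq h.lx D S.ne (ρ x) (hρ x) hx3 hπx (hcomm x)
  rw [hfix, S.card] at hcent
  have hcF := charP h.lx D
  have h3F : (3 : F) ≠ 0 := by
    intro h0
    have h1 : ((3 : ℕ) : F) = 0 := by exact_mod_cast h0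
    have h2 := (CharP.cast_eq_zero_iff F q 3).1 h1
    rcases (Nat.dvd_prime Nat.prime_three).1 h2 with h3 | h3
    · exact S.hq.one_lt.ne' h3
    · exact S.ne h3.symm
  obtain ⟨m1, m2, e1, e2, e3⟩ := cube (ρ x) hg3 h3F
  rw [finrank_eq h.lx D] at e1
  have hcard : Nat.card {w : W // x • w = w} = Q ^ finrank F (LinearMap.ker (ρ x - 1)) := by
    have h3 : Nat.card {w : W // x • w = w} = Nat.card (LinearMap.ker (ρ x - 1)) := by
      apply Nat.card_congr
      apply Equiv.subtypeEquivRight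
      intro w
      rw [LinearMap.mem_ker, LinearMap.sub_apply, sub_eq_zero]
      rfl
    rw [h3, ← hFQ]
    exact Module.natCard_eq_pow_finrank
  have hδ1 : δ x = 1 ↔ LinearMap.det (ρ x) = 1 := by
    rw [← hδ]
    exact ⟨fun h => by rw [h, Units.val_one], fun h => Units.ext (by rw [h, Units.val_one])⟩
  rcases arith hk e1 e2 (by rw [← hcent]) with ⟨f1, f2⟩ | ⟨f1, f2⟩
  · left
    refine ⟨?_, _, f2, hcard⟩
    rw [hδ1]
    rcases e3 with ⟨-, e4⟩ | ⟨ω, hω, e4⟩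
    · exact e4
    · rw [e4, f1]
      have hω3 : ω ^ 3 = 1 := by
        have : ω ^ 3 - 1 = (ω - 1) * (ω ^ 2 + ω + 1) := by ring
        rw [hω, mul_zero] at this
        exact sub_eq_zero.1 this
      rw [show m2 + 2 * m2 = 3 * m2 by ring, pow_mul, hω3, one_pow]
  · right
    refine ⟨?_, _, f2, hcard⟩
    rw [Ne, hδ1]
    rcases e3 with ⟨e4, -⟩ | ⟨ω, hω, e4⟩
    · exfalso
      apply f1
      rw [e4]
      exact ⟨m2, by ring⟩
    · rw [e4]
      intro h0
      apply f1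
      have hω1 : ω ≠ 1 := by
        rintro rfl
        apply h3F
        rw [← hω]; norm_num
      have hord : orderOf ω = 3 := by
        have : Fact (Nat.Prime 3) := ⟨Nat.prime_three⟩
        refine orderOf_eq_prime ?_ hω1
        have : ω ^ 3 - 1 = (ω - 1) * (ω ^ 2 + ω + 1) := by ring
        rw [hω, mul_zero] at this
        exact sub_eq_zero.1 this
      rw [← hord]
      exact orderOf_dvd_of_pow_eq_one h0

/-- [B8] **exact multiplicities** -/
theorem mult_three (S : SX (U := U) 3 q 2 n X B) (h : LB (W := W) 3 q 2 n L Z π a B) {Q : ℕ}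
    (hQ : Nat.card W = Q ^ (2 ^ n)) {x : G}
    (hx : orderOf x = 3) {k : ℕ} (hk : k ≤ n) (hfix : Nat.card {u : U // π x • u = u} = 2 ^ (2 * (n - k))) :
    (∃ a : ℕ, (3 * a : ℤ) = 2 ^ n + 2 * (-1) ^ k * 2 ^ (n - k) ∧ Nat.card {w : W // x • w = w} = Q ^ a) ∨
    (∃ b : ℕ, (3 * b : ℤ) = 2 ^ n - (-1) ^ k * 2 ^ (n - k) ∧ 3 ∣ Q - 1 ∧ Nat.card {w : W // x • w = w} = Q ^ b) := by
  obtain ⟨F, _, _, δ, hF, hδ⟩ := exists_det S h hQ
  rcases hδ x hx k hk hfix with ⟨-, h1⟩ | ⟨h1, b, h2, h3⟩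
  · exact Or.inl h1
  · right
    refine ⟨b, h2, ?_, h3⟩
    have h4 : orderOf (δ x) = 3 := by
      have : Fact (Nat.Prime 3) := ⟨Nat.prime_three⟩
      exact orderOf_eq_prime (by rw [← map_pow, ← hx, pow_orderOf_eq_one, map_one]) h1
    rw [← hF, ← Nat.card_units, ← h4]
    exact orderOf_dvd_natCard _

theorem untw_aux {Q k : ℕ} (hQ : 1 < Q) {b b' M : ℕ} (h1 : (3 * b : ℤ) = 2 ^ n + 2 * (-1) ^ k * 2 ^ (n - k))
    (h2 : (3 * b' : ℤ) = 2 ^ n - (-1) ^ k * 2 ^ (n - k)) (h3 : M = Q ^ b) (h4 : M = Q ^ b') : False := by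
  have h5 : b = b' := Nat.pow_right_injective hQ (h3.symm.trans h4)
  rw [h5, h2] at h1
  have h6 : (3 : ℤ) * ((-1) ^ k * 2 ^ (n - k)) = 0 := by linarith
  have h7 : ((-1 : ℤ)) ^ k * 2 ^ (n - k) ≠ 0 := mul_ne_zero (pow_ne_zero _ (by norm_num)) (pow_ne_zero _ (by norm_num))
  exact h7 ((mul_eq_zero.1 h6).resolve_left (by norm_num))

/-- the product of two untwisted commuting elements of order `3` is untwisted -/
theorem untw_mul (S : SX (U := U) 3 q 2 n X B) (h : LB (W := W) 3 q 2 n L Z π a B) {Q : ℕ}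
    (hQ : Nat.card W = Q ^ (2 ^ n)) {x y : G} (hx : orderOf x = 3) (hy : orderOf y = 3) (_hxy : x * y = y * x)
    (hxy3 : orderOf (x * y) = 3) {k l m : ℕ} (hk : k ≤ n) (hl : l ≤ n) (hm : m ≤ n)
    (hfx : Nat.card {u : U // π x • u = u} = 2 ^ (2 * (n - k)))
    (hfy : Nat.card {u : U // π y • u = u} = 2 ^ (2 * (n - l)))
    (hfz : Nat.card {u : U // π (x * y) • u = u} = 2 ^ (2 * (n - m)))
    (hux : ∃ b : ℕ, (3 * b : ℤ) = 2 ^ n + 2 * (-1) ^ k * 2 ^ (n - k) ∧ Nat.card {w : W // x • w = w} = Q ^ b)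
    (huy : ∃ b : ℕ, (3 * b : ℤ) = 2 ^ n + 2 * (-1) ^ l * 2 ^ (n - l) ∧ Nat.card {w : W // y • w = w} = Q ^ b) :
    ∃ b : ℕ, (3 * b : ℤ) = 2 ^ n + 2 * (-1) ^ m * 2 ^ (n - m) ∧ Nat.card {w : W // (x * y) • w = w} = Q ^ b := by
  obtain ⟨F, _, _, δ, hF, hδ⟩ := exists_det S h hQ
  have hQ1 : 1 < Q := by rw [← hF]; exact Finite.one_lt_card
  have h1 : δ x = 1 := by
    rcases hδ x hx k hk hfx with ⟨h1, -⟩ | ⟨-, b', h2, h3⟩
    · exact h1
    · obtain ⟨b, h4, h5⟩ := hux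
      exact (untw_aux hQ1 h4 h2 h5 h3).elim
  have h2 : δ y = 1 := by
    rcases hδ y hy l hl hfy with ⟨h1, -⟩ | ⟨-, b', h2, h3⟩
    · exact h1
    · obtain ⟨b, h4, h5⟩ := huy
      exact (untw_aux hQ1 h4 h2 h5 h3).elim
  rcases hδ (x * y) hxy3 m hm hfz with ⟨-, h3⟩ | ⟨h3, -⟩
  · exact h3
  · exact absurd (by rw [map_mul, h1, h2, one_mul]) h3

/-- the cube of an element of order `9` is untwisted if `9 ∤ Q - 1` -/
theorem untw_cube (S : SX (U := U) 3 q 2 n X B) (h : LB (W := W) 3 q 2 n L Z π a B) {Q : ℕ}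
    (hQ : Nat.card W = Q ^ (2 ^ n)) (h9 : ¬ 9 ∣ Q - 1) {y : G} (hy : orderOf y = 9) {k : ℕ} (hk : k ≤ n)
    (hfx : Nat.card {u : U // π (y ^ 3) • u = u} = 2 ^ (2 * (n - k))) :
    ∃ b : ℕ, (3 * b : ℤ) = 2 ^ n + 2 * (-1) ^ k * 2 ^ (n - k) ∧ Nat.card {w : W // (y ^ 3) • w = w} = Q ^ b := by
  obtain ⟨F, _, _, δ, hF, hδ⟩ := exists_det S h hQ
  have hy3 : orderOf (y ^ 3) = 3 := by
    rw [orderOf_pow, hy]
    decide
  rcases hδ (y ^ 3) hy3 k hk hfx with ⟨-, h3⟩ | ⟨h3, -⟩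
  · exact h3
  · exfalso
    apply h3
    by_contra h4
    apply h9
    have h5 : orderOf (δ y) ∣ 3 ^ 2 := by
      apply orderOf_dvd_of_pow_eq_one
      rw [← map_pow, show (3 : ℕ) ^ 2 = orderOf y by rw [hy]; norm_num, pow_orderOf_eq_one, map_one]
    obtain ⟨i, hi, hi2⟩ := (Nat.dvd_prime_pow Nat.prime_three).1 h5
    have h6 : i = 2 := by
      by_contra h7
      apply h4
      rw [map_pow, ← orderOf_dvd_iff_pow_eq_one, hi2]
      interval_cases i
      · norm_num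
      · norm_num
      · exact absurd rfl h7
    rw [h6] at hi2
    rw [← hF, ← Nat.card_units, show 9 = orderOf (δ y) by rw [hi2]; norm_num]
    exact orderOf_dvd_natCard _

end

end Cfsg.Agent.H20.NX
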